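import Groth.Agent.AnProperH3.Ultra
import Groth.Agent.AnLib.Morphisms
import Groth.Agent.UCLib.AffineSpace
import Mathlib.AlgebraicGeometry.ZariskisMainTheorem

/-!
# Proper and finite morphisms read on complex points
-/

open AlgebraicGeometry CategoryTheory CategoryTheory.Limits TopologicalSpace Topology Filter

noncomputable section

set_option backward.isDefEq.respectTransparency.types false

namespace AnProperH3

open An Groth.Agent

variable {X Y : Scheme.{0}} [X.Over SC] [Y.Over SC] [LocallyOfFiniteType (X ↘ SC)]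
  [LocallyOfFiniteType (Y ↘ SC)] (f : X ⟶ Y) [f.IsOver SC]

include f in
theorem locallyOfFiniteType : LocallyOfFiniteType f :=
  have : LocallyOfFiniteType (f ≫ (Y ↘ SC)) := by rw [comp_over f SC]; infer_instance
  locallyOfFiniteType_of_comp f (Y ↘ SC)

/-- A quasi-compact morphism closed on ℂ-points is a closed map. -/
theorem isClosedMap_of_map [QuasiCompact f] (h : IsClosedMap (Pts.map f)) : IsClosedMap f := by
  intro Z hZ
  have : LocallyOfFiniteType f := locallyOfFiniteType f
  have : IsLocallyNoetherian Y := LocallyOfFiniteType.isLocallyNoetherian (Y ↘ SC)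
  have : LocallyOfFinitePresentation f := inferInstance
  have e : (Pts.pt ⁻¹' (f '' Z) : Set (Pts Y)) = Pts.map f '' (Pts.pt ⁻¹' Z) := by
    refine Set.ext fun y => ⟨fun ⟨z, hz, hzy⟩ => ?_, ?_⟩
    · obtain ⟨x, hxZ, hx⟩ := AnLib.exists_pt_mem
        (hZ.isLocallyClosed.inter ((AnLib.isClosed_pt y).preimage f.continuous).isLocallyClosed) ⟨z, hz, hzy⟩
      exact ⟨x, hxZ, AnLib.pt_injective (by rw [Pts.pt_map]; exact hx)⟩
    · rintro ⟨x, hx, rfl⟩
      exact ⟨x.pt, hx, (Pts.pt_map f x).symm⟩
  rw [AnLib.isClosed_iff (f.isLocallyConstructible_image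
    (AnLib.isLocallyConstructible_of_isLocallyClosed hZ.isLocallyClosed)), e]
  exact h _ (hZ.preimage Pts.continuous_pt)

theorem universallyClosed_of_isProperMap [QuasiCompact f] (h : IsProperMap (Pts.map f)) :
    UniversallyClosed f := by
  refine UCLib.universallyClosed_of_affineSpace f fun n => ?_
  have key : ∀ (T : Scheme.{0}) (p : T ⟶ Y) [LocallyOfFiniteType p],
      IsClosedMap (Limits.pullback.snd f p) := by
    intro T p _
    letI : T.Over SC := ⟨p ≫ (Y ↘ SC)⟩
    haveI : p.IsOver SC := ⟨rfl⟩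
    haveI : LocallyOfFiniteType (T ↘ SC) := inferInstanceAs (LocallyOfFiniteType (p ≫ (Y ↘ SC)))
    haveI : LocallyOfFiniteType (pullback f p ↘ SC) :=
      inferInstanceAs (LocallyOfFiniteType (pullback.fst f p ≫ (X ↘ SC)))
    haveI : (pullback.snd f p).IsOver SC := ⟨by
      show pullback.snd f p ≫ p ≫ (Y ↘ SC) = pullback.fst f p ≫ (X ↘ SC)
      rw [← reassoc_of% (pullback.condition (f := f) (g := p)), comp_over f SC]⟩
    haveI : QuasiCompact (pullback.snd f p) := MorphismProperty.pullback_snd _ _ ‹_›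
    refine isClosedMap_of_map _ ?_
    let e := (AnLib.isHomeomorph_prod f p).homeomorph
    have hp : IsProperMap (fun q : {q : Pts X × Pts T // Pts.map f q.1 = Pts.map p q.2} => q.1.2) := by
      refine isProperMap_iff_ultrafilter.2 ⟨by fun_prop, fun U b hb => ?_⟩
      have ht : Tendsto (fun q : {q : Pts X × Pts T // Pts.map f q.1 = Pts.map p q.2} =>
          Pts.map f q.1.1) U (𝓝 (Pts.map p b)) :=
        (((Pts.continuous_map p).tendsto b).comp hb).congr fun q => q.2.symm
      obtain ⟨a, ha, hle⟩ := h.ultrafilter_le_nhds_of_tendsto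
        (𝒰 := U.map fun q : {q : Pts X × Pts T // Pts.map f q.1 = Pts.map p q.2} => q.1.1)
        (y := Pts.map p b) (tendsto_map'_iff.2 ht)
      refine ⟨⟨(a, b), ha⟩, rfl, ?_⟩
      rw [nhds_subtype, ← Filter.map_le_iff_le_comap, nhds_prod_eq]
      have hle' : Tendsto (fun q : {q : Pts X × Pts T // Pts.map f q.1 = Pts.map p q.2} => q.1.1) U (𝓝 a) := hle
      exact hle'.prodMk hb
    exact (hp.comp e.isProperMap).isClosedMap
  exact key _ _

theorem isProper_iff [QuasiCompact f] :
    IsProper f ↔ IsProperMap (Pts.map f) ∧ IsSeparatedMap (Pts.map f) := by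
  refine ⟨fun hf => ⟨isProperMap f, (AnLib.isSeparated_iff f).1 inferInstance⟩, fun ⟨h, hs⟩ => ?_⟩
  have : LocallyOfFiniteType f := locallyOfFiniteType f
  have : IsSeparated f := (AnLib.isSeparated_iff f).2 hs
  have : UniversallyClosed f := universallyClosed_of_isProperMap f h
  exact { }

theorem locallyQuasiFinite [QuasiCompact f] (h : ∀ y : Pts Y, (Pts.map f ⁻¹' {y}).Finite) :
    LocallyQuasiFinite f := by
  have : LocallyOfFiniteType f := locallyOfFiniteType f
  have hall : ∀ z, f.QuasiFiniteAt z := by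
    by_contra hne
    push Not at hne
    obtain ⟨x, hx⟩ := AnLib.exists_pt_mem f.quasiFiniteLocus.2.isClosed_compl.isLocallyClosed hne
    refine hx (f.quasiFiniteAt_iff_isOpen_singleton_asFiber.2 ?_)
    have : JacobsonSpace X := LocallyOfFiniteType.jacobsonSpace (X ↘ SC)
    have hcl : IsClosed (f ⁻¹' {f x.pt}) := by
      rw [← Pts.pt_map f x]
      exact (AnLib.isClosed_pt _).preimage f.continuous
    have : JacobsonSpace (f ⁻¹' {f x.pt}) := JacobsonSpace.of_isClosedEmbedding hcl.isClosedEmbedding_subtypeVal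
    have : DiscreteTopology (f ⁻¹' {f x.pt}) := JacobsonSpace.discreteTopology (by
      refine Set.Finite.of_finite_image (f := Subtype.val) (((h (Pts.map f x)).image Pts.pt).subset ?_)
        Subtype.val_injective.injOn
      rintro _ ⟨w, hw, rfl⟩
      have hw' : IsClosed ({w.1} : Set X) := by
        simpa using hcl.isClosedEmbedding_subtypeVal.isClosedMap _ hw
      obtain ⟨x', hx'⟩ := AnLib.exists_pt_eq hw'
      refine ⟨x', AnLib.pt_injective ?_, hx'⟩
      rw [Pts.pt_map, Pts.pt_map, hx']
      exact w.2)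
    rw [← (f.fiberHomeo (f x.pt)).isOpen_image]
    exact isOpen_discrete _
  refine .of_finite_preimage_singleton f fun y => ?_
  have hd : DiscreteTopology (f ⁻¹' {y}) := by
    refine discreteTopology_iff_isOpen_singleton.2 fun z => ?_
    obtain ⟨z, rfl : f z = y⟩ := z
    have := (f.quasiFiniteAt_iff_isOpen_singleton_asFiber).1 (hall z)
    rw [← (f.fiberHomeo (f z)).isOpen_image] at this
    simpa [Scheme.Hom.asFiber] using this
  have : CompactSpace (f ⁻¹' {y}) := isCompact_iff_compactSpace.1 (f.isCompact_preimage_singleton y)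
  have : Finite (f ⁻¹' {y}) := finite_of_compact_of_discrete
  exact Set.toFinite _

theorem isFinite_iff [QuasiCompact f] :
    IsFinite f ↔ IsProperMap (Pts.map f) ∧ IsSeparatedMap (Pts.map f) ∧
      ∀ y : Pts Y, (Pts.map f ⁻¹' {y}).Finite := by
  rw [IsFinite.iff_isProper_and_locallyQuasiFinite, isProper_iff, and_assoc]
  refine and_congr_right fun _ => and_congr_right fun _ => ⟨fun _ y => ?_, locallyQuasiFinite f⟩
  exact Set.Finite.of_finite_image (f := Pts.pt) ((f.finite_preimage_singleton y.pt).subset (by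
    rintro _ ⟨x, hx, rfl⟩
    show f x.pt = y.pt
    rw [← Pts.pt_map, hx])) AnLib.pt_injective.injOn

end AnProperH3
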