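import Groth.Agent.AnLib.Basic
import Mathlib.Order.Filter.FilterProduct
import Mathlib.AlgebraicGeometry.ValuativeCriterion
import Mathlib.Topology.Maps.Proper.Basic
import Mathlib.RingTheory.Valuation.ValuationSubring

/-!
# Proper morphisms induce proper maps on complex points

Along an ultrafilter of `ℂ`-points, the bounded germs form a valuation subring of the ultrapower of
`ℂ` with standard part map to `ℂ`; the valuative criterion produces the limit point.
-/

open AlgebraicGeometry CategoryTheory TopologicalSpace Topology Filter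

noncomputable section

set_option backward.isDefEq.respectTransparency.types false

namespace AnProperH3

section Bounded

variable {α : Type} (U : Ultrafilter α)

/-- The ultrapower of `ℂ`. -/
abbrev Star : Type := Germ (U : Filter α) ℂ

/-- Bounded elements of the ultrapower. -/
def bdd : ValuationSubring (Star U) where
  carrier := {g | ∃ C : ℝ, g.LiftPred fun z => ‖z‖ ≤ C}
  zero_mem' := ⟨0, Eventually.of_forall fun _ => by simp⟩
  one_mem' := ⟨1, Eventually.of_forall fun _ => by simp⟩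
  add_mem' := by
    intro a b
    induction a using Germ.inductionOn with | h f =>
    induction b using Germ.inductionOn with | h g =>
    rintro ⟨C, hC⟩ ⟨D, hD⟩
    refine ⟨C + D, ?_⟩
    filter_upwards [hC, hD] with x hx hy
    exact (norm_add_le _ _).trans (add_le_add hx hy)
  mul_mem' := by
    intro a b
    induction a using Germ.inductionOn with | h f =>
    induction b using Germ.inductionOn with | h g =>
    rintro ⟨C, hC⟩ ⟨D, hD⟩
    refine ⟨C * D, ?_⟩
    filter_upwards [hC, hD] with x hx hy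
    exact (norm_mul_le _ _).trans (mul_le_mul hx hy (norm_nonneg _) ((norm_nonneg _).trans hx))
  neg_mem' := by
    intro a
    induction a using Germ.inductionOn with | h f =>
    rintro ⟨C, hC⟩
    refine ⟨C, ?_⟩
    filter_upwards [hC] with x hx
    simpa using hx
  mem_or_inv_mem' := by
    intro a
    induction a using Germ.inductionOn with | h f =>
    rcases U.em (fun x => ‖f x‖ ≤ 1) with h | h
    · exact Or.inl ⟨1, h⟩
    · refine Or.inr ⟨1, ?_⟩
      filter_upwards [h] with x hx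
      show ‖(f x)⁻¹‖ ≤ 1
      rw [norm_inv]
      exact inv_le_one_of_one_le₀ (not_le.1 hx).le

theorem exists_limit (a : bdd U) :
    ∃ z : ℂ, ∀ f : α → ℂ, (f : Star U) = a.1 → Tendsto f U (𝓝 z) := by
  obtain ⟨g, hg⟩ := a
  induction g using Germ.inductionOn with | h f =>
  obtain ⟨C, hC⟩ := hg
  obtain ⟨z, -, hz⟩ := (isCompact_closedBall (0 : ℂ) C).ultrafilter_le_nhds (U.map f) (by
    rw [Filter.le_principal_iff]
    show f ⁻¹' Metric.closedBall 0 C ∈ U
    filter_upwards [hC] with x hx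
    simpa using hx)
  exact ⟨z, fun f' hf' => (tendsto_congr' (Germ.coe_eq.1 hf')).2 hz⟩

/-- Standard part. -/
def st₀ (a : bdd U) : ℂ := Classical.choose (exists_limit U a)

theorem tendsto_st₀ {a : bdd U} {f : α → ℂ} (h : (f : Star U) = a.1) :
    Tendsto f U (𝓝 (st₀ U a)) :=
  Classical.choose_spec (exists_limit U a) f h

theorem st₀_eq {a : bdd U} {f : α → ℂ} (h : (f : Star U) = a.1) {z : ℂ} (hz : Tendsto f U (𝓝 z)) :
    st₀ U a = z :=
  tendsto_nhds_unique (tendsto_st₀ U h) hz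

/-- Standard part. -/
def st : bdd U →+* ℂ where
  toFun := st₀ U
  map_one' := st₀_eq U (f := fun _ => 1) rfl tendsto_const_nhds
  map_zero' := st₀_eq U (f := fun _ => 0) rfl tendsto_const_nhds
  map_add' a b := by
    obtain ⟨f, hf⟩ := Quot.exists_rep a.1
    obtain ⟨g, hg⟩ := Quot.exists_rep b.1
    refine st₀_eq U (f := f + g) ?_ ((tendsto_st₀ U hf).add (tendsto_st₀ U hg))
    show ((f + g : α → ℂ) : Star U) = a.1 + b.1
    rw [← hf, ← hg]; rfl
  map_mul' a b := by
    obtain ⟨f, hf⟩ := Quot.exists_rep a.1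
    obtain ⟨g, hg⟩ := Quot.exists_rep b.1
    refine st₀_eq U (f := f * g) ?_ ((tendsto_st₀ U hf).mul (tendsto_st₀ U hg))
    show ((f * g : α → ℂ) : Star U) = a.1 * b.1
    rw [← hf, ← hg]; rfl

instance : IsLocalHom (st U) := ⟨fun a ha => by
  obtain ⟨f, hf⟩ := Quot.exists_rep a.1
  have hz : st U a ≠ 0 := ha.ne_zero
  have h := tendsto_st₀ U hf
  have hev : ∀ᶠ x in (U : Filter α), ‖st U a‖ / 2 < ‖f x‖ :=
    h.norm.eventually (Ioi_mem_nhds (show ‖st U a‖ / 2 < ‖st U a‖ by linarith [norm_pos_iff.2 hz]))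
  have hb : ((fun x => (f x)⁻¹ : α → ℂ) : Star U) ∈ bdd U := by
    refine ⟨(‖st U a‖ / 2)⁻¹, ?_⟩
    filter_upwards [hev] with x hx
    show ‖(f x)⁻¹‖ ≤ _
    rw [norm_inv]
    exact inv_anti₀ (by linarith [norm_pos_iff.2 hz]) hx.le
  refine IsUnit.of_mul_eq_one (⟨_, hb⟩ : bdd U) (Subtype.ext ?_)
  show a.1 * _ = (1 : Star U)
  rw [← hf]
  refine Germ.coe_eq.2 ?_
  filter_upwards [hev] with x hx
  exact mul_inv_cancel₀ (fun h0 => by rw [h0, norm_zero] at hx; linarith [norm_nonneg (st U a)])⟩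

end Bounded

open An Groth.Agent

theorem exists_fac {X : Scheme.{0}} {R : CommRingCat.{0}} (l : Spec R ⟶ X) {W : X.Opens}
    (hW : IsAffineOpen W) (h : ∀ p, l p ∈ W) :
    ∃ χ : Γ(X, W) ⟶ R, Spec.map χ ≫ hW.fromSpec = l := by
  have hr : Set.range l ⊆ Set.range hW.fromSpec := by
    rw [hW.range_fromSpec]; rintro _ ⟨p, rfl⟩; exact h p
  obtain ⟨χ, hχ⟩ := Spec.map_surjective (IsOpenImmersion.lift hW.fromSpec l hr)
  exact ⟨χ, by rw [hχ, IsOpenImmersion.lift_fac]⟩

theorem specMap_evalHom {X : Scheme.{0}} [X.Over SC] (P : Pts X) {W : X.Opens} (hW : IsAffineOpen W)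
    (h : P.pt ∈ W) : Spec.map (CommRingCat.ofHom (AnLib.evalHom P W h)) ≫ hW.fromSpec = P.1 := by
  have e : CommRingCat.ofHom (AnLib.evalHom P W h) =
      P.1.appLE W ⊤ (Pts.top_le_preimage P h) ≫ (Scheme.ΓSpecIso (CommRingCat.of ℂ)).hom := rfl
  rw [e, Spec.map_comp, Category.assoc, IsAffineOpen.SpecMap_appLE_fromSpec P.1 hW (isAffineOpen_top SC),
    IsAffineOpen.fromSpec_top, Scheme.isoSpec_Spec_inv, ← Category.assoc, ← Spec.map_comp, Iso.inv_hom_id,
    Spec.map_id, Category.id_comp]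

variable {X Y : Scheme.{0}} [X.Over SC] [Y.Over SC] (U : Ultrafilter (Pts X))

open Classical in
/-- The values of a section at the points. -/
def evFun (W : X.Opens) (s : Γ(X, W)) : Pts X → ℂ :=
  fun x => if h : x.pt ∈ W then AnLib.evalHom x W h s else 0

/-- A section on an open containing almost all points defines an element of the ultrapower. -/
def starHom (W : X.Opens) (hW : ∀ᶠ x in (U : Filter (Pts X)), x.pt ∈ W) : Γ(X, W) →+* Star U where
  toFun s := (evFun W s : Star U)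
  map_one' := Germ.coe_eq.2 (hW.mono fun x hx => by simp [evFun, hx])
  map_zero' := Germ.coe_eq.2 (hW.mono fun x hx => by simp [evFun, hx])
  map_add' s t := Germ.coe_eq.2 (hW.mono fun x hx => by simp [evFun, hx])
  map_mul' s t := Germ.coe_eq.2 (hW.mono fun x hx => by simp [evFun, hx])

theorem starHom_apply_eq (W : X.Opens) (hW : ∀ᶠ x in (U : Filter (Pts X)), x.pt ∈ W) (s : Γ(X, W))
    (g : Pts X → ℂ) (hg : ∀ᶠ x in (U : Filter (Pts X)), ∀ h : x.pt ∈ W, AnLib.evalHom x W h s = g x) :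
    starHom U W hW s = (g : Star U) :=
  Germ.coe_eq.2 ((hW.and hg).mono fun x hx => by simp [evFun, hx.1, hx.2 hx.1])

/-- The point of the ultrapower. -/
def starPt {W : X.Opens} (hW : IsAffineOpen W) (hWU : ∀ᶠ x in (U : Filter (Pts X)), x.pt ∈ W) :
    Spec (CommRingCat.of (Star U)) ⟶ X :=
  Spec.map (CommRingCat.ofHom (starHom U W hWU)) ≫ hW.fromSpec

theorem starPt_eq_of_le {W W' : X.Opens} (hW : IsAffineOpen W) (hW' : IsAffineOpen W') (hle : W ≤ W')
    (hWU : ∀ᶠ x in (U : Filter (Pts X)), x.pt ∈ W) :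
    starPt U hW hWU = starPt U hW' (hWU.mono fun _ hx => hle hx) := by
  have e : CommRingCat.ofHom (starHom U W' (hWU.mono fun _ hx => hle hx)) =
      X.presheaf.map (homOfLE hle).op ≫ CommRingCat.ofHom (starHom U W hWU) := by
    ext s
    refine starHom_apply_eq U W' (hWU.mono fun _ hx => hle hx) s _ (hWU.mono fun x hx hx' => ?_)
    simp only [evFun, hx, dif_pos]
    exact (AnLib.ev_res x hle hx s).symm
  rw [starPt, starPt, e, Spec.map_comp, Category.assoc,
    IsAffineOpen.map_fromSpec hW' hW (homOfLE hle).op]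

/-- An affine open containing the point of the ultrapower contains almost all points. -/
theorem eventually_of_starPt {W W' : X.Opens} (hW : IsAffineOpen W) (hW' : IsAffineOpen W')
    (hWU : ∀ᶠ x in (U : Filter (Pts X)), x.pt ∈ W) (h : ∀ p, starPt U hW hWU p ∈ W') :
    ∃ hW'U : ∀ᶠ x in (U : Filter (Pts X)), x.pt ∈ W', starPt U hW hWU = starPt U hW' hW'U := by
  obtain ⟨p⟩ : Nonempty ↥(Spec (CommRingCat.of (Star U))) := inferInstance
  let φ := Spec.map (CommRingCat.ofHom (starHom U W hWU))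
  have hq : starPt U hW hWU p = hW.fromSpec (φ p) := rfl
  have hqW : starPt U hW hWU p ∈ W := by
    rw [hq]; exact hW.range_fromSpec.subset ⟨φ p, rfl⟩
  obtain ⟨a, ha, haq⟩ := hW.exists_basicOpen_le ⟨starPt U hW hWU p, h p⟩ hqW
  have hmem : φ p ∈ PrimeSpectrum.basicOpen a := by
    have : φ p ∈ hW.fromSpec ⁻¹ᵁ X.basicOpen a := haq
    rwa [hW.fromSpec_preimage_basicOpen] at this
  have ha0 : starHom U W hWU a ≠ 0 := fun h0 => by
    refine hmem ?_
    show starHom U W hWU a ∈ p.asIdeal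
    rw [h0]; exact zero_mem _
  have haU : ∀ᶠ x in (U : Filter (Pts X)), x.pt ∈ X.basicOpen a := by
    rcases U.em (fun x => x.pt ∈ X.basicOpen a) with h1 | h1
    · exact h1
    · refine absurd (starHom_apply_eq U W hWU a 0 (h1.mono fun x hx hxW => ?_)) ha0
      by_contra hne
      exact hx ((AnLib.ev_ne_zero_iff x W hxW a).1 hne)
  refine ⟨haU.mono fun x hx => ha hx, ?_⟩
  rw [← starPt_eq_of_le U (hW.basicOpen a) hW (X.basicOpen_le a) haU,
    ← starPt_eq_of_le U (hW.basicOpen a) hW' ha haU]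

theorem exists_limit_point (f : X ⟶ Y) [f.IsOver SC] [UniversallyClosed f] (y : Pts Y)
    (hy : Tendsto (Pts.map f) U (𝓝 y)) : ∃ x : Pts X, Pts.map f x = y ∧ (U : Filter (Pts X)) ≤ 𝓝 x := by
  haveI : QuasiCompact f := inferInstance
  obtain ⟨V, hV, hyV, -⟩ := exists_isAffineOpen_mem_and_subset (x := y.pt) (U := ⊤) trivial
  have hVU : ∀ᶠ x in (U : Filter (Pts X)), x.pt ∈ f ⁻¹ᵁ V := by
    filter_upwards [hy ((Pts.isOpen_preimage_pt V).mem_nhds hyV)] with x hx
    have : (Pts.map f x).pt ∈ V := hx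
    rwa [Pts.pt_map] at this
  obtain ⟨W, hW, hWle, hWU⟩ : ∃ W : X.Opens, IsAffineOpen W ∧ W ≤ f ⁻¹ᵁ V ∧
      ∀ᶠ x in (U : Filter (Pts X)), x.pt ∈ W := by
    have hc : IsCompact ((f ⁻¹ᵁ V : X.Opens) : Set X) := QuasiCompact.isCompact_preimage _ V.2 hV.isCompact
    choose W hW hxW hWle using fun p : ((f ⁻¹ᵁ V : X.Opens) : Set X) =>
      exists_isAffineOpen_mem_and_subset (U := f ⁻¹ᵁ V) (x := p.1) p.2
    obtain ⟨t, ht⟩ := hc.elim_finite_subcover (fun p => (W p : Set X)) (fun p => (W p).2)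
      fun p hp => Set.mem_iUnion.2 ⟨⟨p, hp⟩, hxW ⟨p, hp⟩⟩
    have hmem : (⋃ p ∈ (t : Set _), Pts.pt ⁻¹' (W p : Set X) : Set (Pts X)) ∈ U := by
      filter_upwards [hVU] with x hx
      obtain ⟨p, hp, hxp⟩ := Set.mem_iUnion₂.1 (ht hx)
      exact Set.mem_iUnion₂.2 ⟨p, hp, hxp⟩
    obtain ⟨p, -, hp⟩ := (Ultrafilter.finite_biUnion_mem_iff t.finite_toSet).1 hmem
    exact ⟨W p, hW p, hWle p, hp⟩
  let q := starPt U hW hWU
  -- the bottom map
  let ψ₀ : Γ(Y, V) →+* Star U := (starHom U W hWU).comp (f.appLE V W hWle).hom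
  have hψ : ∀ t, ψ₀ t = ((fun x => evFun V t (Pts.map f x)) : Star U) := fun t =>
    starHom_apply_eq U W hWU _ _ (hWU.mono fun x hx _ => by
      have h' : (Pts.map f x).pt ∈ V := by rw [Pts.pt_map]; exact hWle hx
      simp only [evFun, h', dif_pos]
      show x.ev W hx (X.presheaf.map (homOfLE hWle).op (f.app V t)) = (Pts.map f x).ev V h' t
      rw [AnLib.ev_res x hWle hx, Pts.ev_map])
  have hlim : ∀ t, Tendsto (fun x => evFun V t (Pts.map f x)) U (𝓝 (AnLib.evalHom y V hyV t)) := by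
    intro t O hO
    obtain ⟨O', hO', hO'o, hmem⟩ := _root_.mem_nhds_iff.1 hO
    rw [Filter.mem_map]
    filter_upwards [hy ((Pts.isOpen_basicSet V t hO'o).mem_nhds ⟨hyV, hmem⟩)] with x hx
    obtain ⟨h', hx'⟩ := hx
    show evFun V t (Pts.map f x) ∈ O
    simp only [evFun, h', dif_pos]
    exact hO' hx'
  have hψb : ∀ t, ψ₀ t ∈ bdd U := fun t => by
    rw [hψ]
    refine ⟨‖AnLib.evalHom y V hyV t‖ + 1, ?_⟩
    exact ((hlim t).norm.eventually (Iio_mem_nhds (lt_add_one _))).mono fun x hx => le_of_lt hx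
  let ψ : Γ(Y, V) →+* bdd U := RingHom.codRestrict ψ₀ (bdd U).toSubring hψb
  have hstψ : (st U).comp ψ = AnLib.evalHom y V hyV := by
    ext t
    exact st₀_eq U (a := ψ t) (hψ t).symm (hlim t)
  let i₂ : Spec (CommRingCat.of (bdd U)) ⟶ Y := Spec.map (CommRingCat.ofHom ψ) ≫ hV.fromSpec
  have hsq : q ≫ f = Spec.map (CommRingCat.ofHom (algebraMap (bdd U) (Star U))) ≫ i₂ := by
    simp only [q, starPt, i₂, Category.assoc]
    rw [← IsAffineOpen.SpecMap_appLE_fromSpec f hV hW hWle, ← Spec.map_comp_assoc, ← Spec.map_comp_assoc]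
    rfl
  have hEx : ValuativeCriterion.Existence f := by
    have h : UniversallyClosed f := inferInstance
    rw [UniversallyClosed.eq_valuativeCriterion] at h
    exact h.1
  obtain ⟨⟨l, hl₁, hl₂⟩⟩ := (CommSq.HasLift.iff _).1 (hEx
    { R := bdd U, K := Star U, i₁ := q, i₂ := i₂, commSq := ⟨hsq⟩ })
  -- the limit point
  let x₀ : Pts X := ⟨Spec.map (CommRingCat.ofHom (st U)) ≫ l, by
    rw [← comp_over f SC, Category.assoc, reassoc_of% hl₂]
    simp only [i₂, Category.assoc]
    rw [← Spec.map_comp_assoc, ← CommRingCat.ofHom_comp, hstψ, ← Category.assoc, specMap_evalHom]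
    exact y.2⟩
  have hx₀ : Pts.map f x₀ = y := Subtype.ext (by
    show (Spec.map (CommRingCat.ofHom (st U)) ≫ l) ≫ f = y.1
    rw [Category.assoc, hl₂]
    simp only [i₂]
    rw [← Spec.map_comp_assoc, ← CommRingCat.ofHom_comp, hstψ, specMap_evalHom])
  refine ⟨x₀, hx₀, ?_⟩
  rw [nhds_generateFrom]
  refine le_iInf₂ ?_
  rintro _ ⟨hmem, W'', s, O, hO, rfl⟩
  obtain ⟨hxW'', hsO⟩ := hmem
  obtain ⟨W', hW', hxW', hW'le⟩ := exists_isAffineOpen_mem_and_subset hxW''
  have hcl : l (IsLocalRing.closedPoint (bdd U)) ∈ W' := by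
    have e : x₀.pt = l (Spec.map (CommRingCat.ofHom (st U)) cpt) := Scheme.Hom.comp_apply _ _ _
    have e2 : Spec.map (CommRingCat.ofHom (st U)) cpt = IsLocalRing.closedPoint (bdd U) :=
      (congrArg _ (eq_cpt (IsLocalRing.closedPoint ℂ)).symm).trans (IsLocalRing.comap_closedPoint (st U))
    rw [e, e2] at hxW'
    exact hxW'
  have hlW : ∀ p, l p ∈ W' := fun p =>
    ((IsLocalRing.specializes_closedPoint p).map l.continuous).mem_open W'.2 hcl
  obtain ⟨χ, hχ⟩ := exists_fac l hW' hlW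
  obtain ⟨hW'U, heq⟩ := eventually_of_starPt U hW hW' hWU fun p => by
    have : q p = l (Spec.map (CommRingCat.ofHom (algebraMap (bdd U) (Star U))) p) := by
      rw [← Scheme.Hom.comp_apply, hl₁]
    exact this ▸ hlW _
  have hχ' : χ ≫ CommRingCat.ofHom (algebraMap (bdd U) (Star U)) = CommRingCat.ofHom (starHom U W' hW'U) := by
    apply Spec.map_injective
    rw [← cancel_mono hW'.fromSpec, Spec.map_comp, Category.assoc, hχ]
    exact hl₁.trans heq
  have hev : χ ≫ CommRingCat.ofHom (st U) = CommRingCat.ofHom (AnLib.evalHom x₀ W' hxW') := by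
    apply Spec.map_injective
    rw [← cancel_mono hW'.fromSpec, Spec.map_comp, Category.assoc, hχ, specMap_evalHom]
  rw [Filter.le_principal_iff]
  let s' := X.presheaf.map (homOfLE hW'le).op s
  have h1 : ((evFun W' s' : Pts X → ℂ) : Star U) = (χ s').1 :=
    (ConcreteCategory.congr_hom hχ' s').symm
  have h2 : Tendsto (evFun W' s') U (𝓝 (x₀.ev W'' hxW'' s)) := by
    have := tendsto_st₀ U h1
    have e : st₀ U (χ s') = x₀.ev W'' hxW'' s :=
      (ConcreteCategory.congr_hom hev s').trans (AnLib.ev_res x₀ hW'le hxW' s)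
    rwa [e] at this
  filter_upwards [hW'U, h2 (hO.mem_nhds hsO)] with x hx hxO
  refine ⟨hW'le hx, ?_⟩
  have : evFun W' s' x ∈ O := hxO
  simp only [evFun, hx, dif_pos] at this
  rwa [← AnLib.ev_res x hW'le hx s]

theorem isProperMap (f : X ⟶ Y) [f.IsOver SC] [UniversallyClosed f] : IsProperMap (Pts.map f) :=
  isProperMap_iff_ultrafilter.2 ⟨Pts.continuous_map f, fun U y hy => exists_limit_point U f y hy⟩

end AnProperH3
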